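import Mathlib
import Groth.Prelude.Def_Found

/-!
N-1, N-2 and universally Japanese rings: localisation, checking on covers, reduction to N-1.
-/

namespace Groth.Agent.N2Lib

universe u

variable {R : Type u} [CommRing R]

theorem finite_iff_fg (L : Type u) [CommRing L] [Algebra R L] :
    Module.Finite R (integralClosure R L) ↔ (Subalgebra.toSubmodule (integralClosure R L)).FG :=
  Module.Finite.iff_fg (N := Subalgebra.toSubmodule (integralClosure R L))

/-- Finiteness of the integral closure passes to localisations. -/
theorem finite_localization (M : Submonoid R) (S L : Type u) [CommRing S] [Algebra R S]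
    [IsLocalization M S] [CommRing L] [Algebra R L] [Algebra S L] [IsScalarTower R S L]
    (h : Module.Finite R (integralClosure R L)) : Module.Finite S (integralClosure S L) := by
  rw [finite_iff_fg] at h ⊢
  obtain ⟨G, hG⟩ := h
  refine ⟨G, le_antisymm (Submodule.span_le.mpr fun g hg => ?_) fun x hx => ?_⟩
  · have hg' : g ∈ Subalgebra.toSubmodule (integralClosure R L) := hG ▸ Submodule.subset_span hg
    have h' : IsIntegral R g := hg'
    exact h'.tower_top (A := S)
  · obtain ⟨m, hm⟩ := IsIntegral.exists_multiple_integral_of_isLocalization M x (show IsIntegral S x from hx)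
    have hm' : m • x ∈ Submodule.span R (G : Set L) := hG.symm ▸ (show m • x ∈ integralClosure R L from hm)
    obtain ⟨c, hc⟩ := IsLocalization.map_units S m
    have h2 : m • x ∈ Submodule.span S (G : Set L) := Submodule.span_le_restrictScalars R S _ hm'
    rw [Submonoid.smul_def, ← algebraMap_smul S (m : R), ← hc] at h2
    simpa [smul_smul] using (Submodule.span S (G : Set L)).smul_mem ((c⁻¹ : Sˣ) : S) h2

/-- Finiteness of the integral closure can be checked on a finite cover by principal opens. -/
theorem finite_of_span {ι : Type u} [Finite ι] (f : ι → R) (hf : Ideal.span (Set.range f) = ⊤)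
    (Rf : ι → Type u) [∀ i, CommRing (Rf i)] [∀ i, Algebra R (Rf i)]
    [∀ i, IsLocalization.Away (f i) (Rf i)] (L : Type u) [CommRing L] [Algebra R L]
    [∀ i, Algebra (Rf i) L] [∀ i, IsScalarTower R (Rf i) L]
    (h : ∀ i, Module.Finite (Rf i) (integralClosure (Rf i) L)) :
    Module.Finite R (integralClosure R L) := by
  classical
  cases nonempty_fintype ι
  simp only [finite_iff_fg] at h ⊢
  choose G hG using h
  have hmul : ∀ i, ∀ g ∈ G i, ∃ m : Submonoid.powers (f i), IsIntegral R (m • g) := fun i g hg =>
    IsIntegral.exists_multiple_integral_of_isLocalization (Submonoid.powers (f i)) g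
      (show g ∈ Subalgebra.toSubmodule (integralClosure (Rf i) L) from hG i ▸ Submodule.subset_span hg)
  choose m hm using hmul
  let G' : Finset L := Finset.univ.biUnion fun i => (G i).attach.image fun g => m i g.1 g.2 • g.1
  refine ⟨G', le_antisymm (Submodule.span_le.mpr fun g hg => ?_) fun x hx => ?_⟩
  · simp only [G', Finset.coe_biUnion, Finset.coe_univ, Set.mem_univ, Set.iUnion_true, Set.mem_iUnion,
      Finset.coe_image, Set.mem_image] at hg
    obtain ⟨i, ⟨g, hg⟩, -, rfl⟩ := hg
    exact hm i g hg
  · let J : Ideal R := (Submodule.span R (G' : Set L)).comap (LinearMap.toSpanSingleton R L x)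
    suffices J = ⊤ by
      have h1 : (1 : R) ∈ J := this ▸ Submodule.mem_top
      simpa [J] using h1
    have hrad : ∀ i, f i ∈ J.radical := fun i => by
      have hxi : x ∈ Submodule.span (Rf i) (G i : Set L) :=
        hG i ▸ (show IsIntegral (Rf i) x from (show IsIntegral R x from hx).tower_top)
      have key : ∀ y ∈ Submodule.span (Rf i) (G i : Set L), ∃ n : ℕ, f i ^ n • y ∈ Submodule.span R (G' : Set L) := by
        intro y hy
        induction hy using Submodule.span_induction with
        | mem g hg =>
          obtain ⟨n, hn⟩ := (m i g hg).2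
          simp only at hn
          refine ⟨n, Submodule.subset_span ?_⟩
          rw [hn]
          simp only [G', Finset.coe_biUnion, Finset.coe_univ, Set.mem_univ, Set.iUnion_true, Set.mem_iUnion,
            Finset.coe_image, Set.mem_image]
          exact ⟨i, ⟨g, hg⟩, Finset.mem_attach _ _, rfl⟩
        | zero => exact ⟨0, by simp⟩
        | add a b _ _ ha hb =>
          obtain ⟨n, hn⟩ := ha
          obtain ⟨k, hk⟩ := hb
          refine ⟨n + k, ?_⟩
          rw [smul_add, pow_add]
          refine add_mem ?_ ?_
          · rw [mul_comm, mul_smul]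
            exact Submodule.smul_mem _ _ hn
          · rw [mul_smul]
            exact Submodule.smul_mem _ _ hk
        | smul r y _ hy =>
          obtain ⟨n, hn⟩ := hy
          obtain ⟨⟨a, ⟨_, k, rfl⟩⟩, hak⟩ := IsLocalization.surj (Submonoid.powers (f i)) r
          simp only at hak
          refine ⟨n + k, ?_⟩
          have h1 : f i ^ (n + k) • (r • y) = a • (f i ^ n • y) := by
            rw [pow_add, mul_comm, mul_smul, smul_comm (f i ^ n) r y, ← algebraMap_smul (Rf i) (f i ^ k),
              smul_smul, mul_comm, hak, algebraMap_smul]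
          rw [h1]
          exact Submodule.smul_mem _ a hn
      obtain ⟨n, hn⟩ := key x hxi
      exact ⟨n, by simpa [J] using hn⟩
    refine Ideal.radical_eq_top.mp (top_le_iff.mp ?_)
    rw [← hf, Ideal.span_le]
    rintro _ ⟨i, rfl⟩
    exact hrad i

variable [IsDomain R]

/-- N-1 for any fraction field. -/
theorem finite_of_isN1 (h : CAlg.IsN1 R) (K : Type u) [Field K] [Algebra R K] [IsFractionRing R K] :
    Module.Finite R (integralClosure R K) :=
  haveI : Module.Finite R (integralClosure R (FractionRing R)) := h
  Module.Finite.equiv (AlgEquiv.mapIntegralClosure (FractionRing.algEquiv R K)).toLinearEquiv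

theorem isN1_of_finite (K : Type u) [Field K] [Algebra R K] [IsFractionRing R K]
    (h : Module.Finite R (integralClosure R K)) : CAlg.IsN1 R :=
  Module.Finite.equiv (AlgEquiv.mapIntegralClosure (FractionRing.algEquiv R K).symm).toLinearEquiv

/-- N-2 for any fraction field. -/
theorem finite_of_isN2 (h : CAlg.IsN2 R) (K : Type u) [Field K] [Algebra R K] [IsFractionRing R K]
    (L : Type u) [Field L] [Algebra R L] [Algebra K L] [IsScalarTower R K L] [FiniteDimensional K L] :
    Module.Finite R (integralClosure R L) := by
  let e : FractionRing R ≃ₐ[R] K := FractionRing.algEquiv R K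
  letI : Algebra (FractionRing R) L := ((algebraMap K L).comp e.toRingHom).toAlgebra
  haveI : IsScalarTower R (FractionRing R) L := IsScalarTower.of_algebraMap_eq fun r => by
    show algebraMap R L r = algebraMap K L (e (algebraMap R (FractionRing R) r))
    rw [AlgEquiv.commutes, ← IsScalarTower.algebraMap_apply]
  refine h L ?_
  letI : Algebra (FractionRing R) K := e.toRingHom.toAlgebra
  haveI : IsScalarTower (FractionRing R) K L := IsScalarTower.of_algebraMap_eq fun _ => rfl
  haveI : Module.Finite (FractionRing R) K := RingHom.Finite.of_surjective e.toRingHom e.surjective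
  exact Module.Finite.trans K L

theorem isN1_localization (M : Submonoid R) (S : Type u) [CommRing S] [IsDomain S] [Algebra R S]
    [IsLocalization M S] (h : CAlg.IsN1 R) : CAlg.IsN1 S := by
  have hM : M ≤ nonZeroDivisors R := fun m hm => mem_nonZeroDivisors_of_ne_zero fun h0 => by
    have := IsLocalization.map_units S ⟨m, hm⟩
    simp [h0] at this
  letI : Algebra S (FractionRing R) := (IsLocalization.lift (M := M) (S := S)
    (g := algebraMap R (FractionRing R)) fun m => IsLocalization.map_units (FractionRing R) (⟨m, hM m.2⟩ : nonZeroDivisors R)).toAlgebra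
  haveI : IsScalarTower R S (FractionRing R) := IsScalarTower.of_algebraMap_eq fun r => (IsLocalization.lift_eq _ r).symm
  haveI : IsFractionRing S (FractionRing R) := IsFractionRing.isFractionRing_of_isDomain_of_isLocalization M S (FractionRing R)
  exact isN1_of_finite (FractionRing R) (finite_localization M S (FractionRing R) h)

theorem isN2_localization (M : Submonoid R) (S : Type u) [CommRing S] [IsDomain S] [Algebra R S]
    [IsLocalization M S] (h : CAlg.IsN2 R) : CAlg.IsN2 S := by
  intro L _ _ _ _ hfin
  have hM : M ≤ nonZeroDivisors R := fun m hm => mem_nonZeroDivisors_of_ne_zero fun h0 => by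
    have := IsLocalization.map_units S ⟨m, hm⟩
    simp [h0] at this
  letI : Algebra R L := ((algebraMap S L).comp (algebraMap R S)).toAlgebra
  haveI : IsScalarTower R S L := IsScalarTower.of_algebraMap_eq' rfl
  let K := FractionRing R
  letI : Algebra S K := (IsLocalization.lift (M := M) (S := S)
    (g := algebraMap R K) fun m => IsLocalization.map_units K (⟨m, hM m.2⟩ : nonZeroDivisors R)).toAlgebra
  haveI : IsScalarTower R S K := IsScalarTower.of_algebraMap_eq fun r => (IsLocalization.lift_eq _ r).symm
  haveI : IsFractionRing S K := IsFractionRing.isFractionRing_of_isDomain_of_isLocalization M S K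
  let e : K ≃ₐ[S] FractionRing S := (FractionRing.algEquiv S K).symm
  letI : Algebra K L := ((algebraMap (FractionRing S) L).comp e.toRingHom).toAlgebra
  haveI : IsScalarTower R K L := IsScalarTower.of_algebraMap_eq fun r => by
    show algebraMap S L (algebraMap R S r) = algebraMap (FractionRing S) L (e (algebraMap R K r))
    rw [IsScalarTower.algebraMap_apply R S K, e.commutes, ← IsScalarTower.algebraMap_apply S (FractionRing S) L]
  letI : Algebra K (FractionRing S) := e.toRingHom.toAlgebra
  haveI : IsScalarTower K (FractionRing S) L := IsScalarTower.of_algebraMap_eq fun _ => rfl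
  haveI : Module.Finite K (FractionRing S) := RingHom.Finite.of_surjective e.toRingHom e.surjective
  haveI := hfin
  haveI : FiniteDimensional K L := Module.Finite.trans (FractionRing S) L
  exact finite_localization M S L (finite_of_isN2 h K L)

theorem isN1_of_span {ι : Type u} [Finite ι] (f : ι → R) (hf : Ideal.span (Set.range f) = ⊤)
    (Rf : ι → Type u) [∀ i, CommRing (Rf i)] [∀ i, IsDomain (Rf i)] [∀ i, Algebra R (Rf i)]
    [∀ i, IsLocalization.Away (f i) (Rf i)] (h : ∀ i, CAlg.IsN1 (Rf i)) : CAlg.IsN1 R := by
  let K := FractionRing R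
  have hf0 : ∀ i, f i ≠ 0 := fun i h0 => by
    have := IsLocalization.Away.algebraMap_isUnit (f i) (S := Rf i)
    simp [h0] at this
  have hu : ∀ i, IsUnit (algebraMap R K (f i)) := fun i => by
    rw [isUnit_iff_ne_zero, map_ne_zero_iff _ (IsFractionRing.injective R K)]
    exact hf0 i
  letI : ∀ i, Algebra (Rf i) K := fun i => (IsLocalization.Away.lift (f i) (hu i)).toAlgebra
  haveI : ∀ i, IsScalarTower R (Rf i) K := fun i =>
    IsScalarTower.of_algebraMap_eq fun r => (IsLocalization.Away.lift_eq (f i) (hu i) r).symm
  haveI : ∀ i, IsFractionRing (Rf i) K := fun i =>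
    IsFractionRing.isFractionRing_of_isDomain_of_isLocalization (Submonoid.powers (f i)) (Rf i) K
  exact finite_of_span f hf Rf K fun i => finite_of_isN1 (h i) K

theorem isN2_of_span {ι : Type u} [Finite ι] (f : ι → R) (hf : Ideal.span (Set.range f) = ⊤)
    (Rf : ι → Type u) [∀ i, CommRing (Rf i)] [∀ i, IsDomain (Rf i)] [∀ i, Algebra R (Rf i)]
    [∀ i, IsLocalization.Away (f i) (Rf i)] (h : ∀ i, CAlg.IsN2 (Rf i)) : CAlg.IsN2 R := by
  intro L _ _ _ _ hfin
  let K := FractionRing R
  have hf0 : ∀ i, f i ≠ 0 := fun i h0 => by
    have := IsLocalization.Away.algebraMap_isUnit (f i) (S := Rf i)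
    simp [h0] at this
  have hu : ∀ i, IsUnit (algebraMap R K (f i)) := fun i => by
    rw [isUnit_iff_ne_zero, map_ne_zero_iff _ (IsFractionRing.injective R K)]
    exact hf0 i
  letI : ∀ i, Algebra (Rf i) K := fun i => (IsLocalization.Away.lift (f i) (hu i)).toAlgebra
  haveI : ∀ i, IsScalarTower R (Rf i) K := fun i =>
    IsScalarTower.of_algebraMap_eq fun r => (IsLocalization.Away.lift_eq (f i) (hu i) r).symm
  haveI : ∀ i, IsFractionRing (Rf i) K := fun i =>
    IsFractionRing.isFractionRing_of_isDomain_of_isLocalization (Submonoid.powers (f i)) (Rf i) K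
  letI : ∀ i, Algebra (Rf i) L := fun i => ((algebraMap K L).comp (algebraMap (Rf i) K)).toAlgebra
  haveI : ∀ i, IsScalarTower (Rf i) K L := fun i => IsScalarTower.of_algebraMap_eq' rfl
  haveI : ∀ i, IsScalarTower R (Rf i) L := fun i => IsScalarTower.of_algebraMap_eq fun r => by
    show algebraMap R L r = algebraMap K L (algebraMap (Rf i) K (algebraMap R (Rf i) r))
    rw [← IsScalarTower.algebraMap_apply R (Rf i) K, ← IsScalarTower.algebraMap_apply R K L]
  haveI := hfin
  exact finite_of_span f hf Rf L fun i => finite_of_isN2 (h i) K L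

/-- A domain is N-2 as soon as its finite extension domains of finite type are N-1. -/
theorem isN2_of_forall_isN1
    (h : ∀ (T : Type u) [CommRing T] [IsDomain T] [Algebra R T], Module.Finite R T → CAlg.IsN1 T) :
    CAlg.IsN2 R := by
  classical
  intro L _ _ _ _ hfin
  let K := FractionRing R
  haveI := hfin
  obtain ⟨s, b, hb⟩ := FiniteDimensional.exists_is_basis_integral R K L
  have hfg : (Subalgebra.toSubmodule (Algebra.adjoin R (Set.range b))).FG :=
    fg_adjoin_of_finite (Set.finite_range b) fun x hx => by
      obtain ⟨i, rfl⟩ := hx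
      exact hb i
  let T := Algebra.adjoin R (Set.range b)
  haveI hTfin : Module.Finite R T := (Module.Finite.iff_fg (N := Subalgebra.toSubmodule T)).mpr hfg
  have hsurj : ∀ z : L, ∃ x : T, ∃ y : R, y ≠ 0 ∧ algebraMap R L y * z = (x : L) := fun z => by
    have hz : z ∈ Submodule.span K (Set.range b) := b.span_eq ▸ Submodule.mem_top
    induction hz using Submodule.span_induction with
    | mem w hw => exact ⟨⟨w, Algebra.subset_adjoin hw⟩, 1, one_ne_zero, by simp⟩
    | zero => exact ⟨0, 1, one_ne_zero, by simp⟩
    | add a c _ _ ha hc =>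
      obtain ⟨x, y, hy, hxy⟩ := ha
      obtain ⟨x', y', hy', hxy'⟩ := hc
      refine ⟨y' • x + y • x', y * y', mul_ne_zero hy hy', ?_⟩
      rw [map_mul, mul_add, Subalgebra.coe_add, Subalgebra.coe_smul, Subalgebra.coe_smul, Algebra.smul_def,
        Algebra.smul_def, ← hxy, ← hxy']
      ring
    | smul k w _ hw =>
      obtain ⟨x, y, hy, hxy⟩ := hw
      obtain ⟨⟨a, d⟩, had⟩ := IsLocalization.surj (nonZeroDivisors R) k
      refine ⟨a • x, (d : R) * y, mul_ne_zero (nonZeroDivisors.ne_zero d.2) hy, ?_⟩
      have had' : algebraMap R L d * algebraMap K L k = algebraMap R L a := by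
        rw [IsScalarTower.algebraMap_apply R K L, IsScalarTower.algebraMap_apply R K L, ← map_mul, mul_comm]
        exact congrArg _ had
      rw [Subalgebra.coe_smul, Algebra.smul_def, Algebra.smul_def, ← hxy, map_mul, ← had']
      ring
  have hinj : Function.Injective (algebraMap R L) := by
    rw [IsScalarTower.algebraMap_eq R K L]
    exact (algebraMap K L).injective.comp (IsFractionRing.injective R K)
  haveI : IsFractionRing T L := IsFractionRing.of_field T L fun z => by
    obtain ⟨x, y, hy, hxy⟩ := hsurj z
    refine ⟨x, algebraMap R T y, ?_⟩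
    show z = (x : L) / algebraMap R L y
    rw [← hxy, mul_div_cancel_left₀ _ ((map_ne_zero_iff _ hinj).mpr hy)]
  haveI := finite_of_isN1 (h T hTfin) L
  have hfin2 : Module.Finite R (integralClosure T L) := Module.Finite.trans T _
  rw [finite_iff_fg]
  have : Subalgebra.toSubmodule (integralClosure R L) =
      (Subalgebra.toSubmodule (integralClosure T L)).restrictScalars R := by
    ext x
    exact ⟨fun hx => (show IsIntegral R x from hx).tower_top,
      fun hx => isIntegral_trans (R := R) x (show IsIntegral T x from hx)⟩
  rw [this]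
  haveI : Module.Finite R ((Subalgebra.toSubmodule (integralClosure T L)).restrictScalars R) := hfin2
  exact Module.Finite.iff_fg.mp this

end Groth.Agent.N2Lib
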